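import Groth.Agent.TorIndepLib.Main
import Groth.Agent.CycKSuppLib.Killed
import Groth.Agent.S3747
import Groth.Agent.S3748
import Groth.Agent.S3797
import Groth.Agent.S3799

/-!
# Regularly meeting immersions
-/

set_option autoImplicit false
set_option linter.style.haveILetI false
set_option backward.isDefEq.respectTransparency false
set_option backward.isDefEq.respectTransparency.types false

universe v u

open CategoryTheory CategoryTheory.Limits AlgebraicGeometry

noncomputable section

namespace TorIndepLib

open Groth.Agent

/-- Enough locally free modules descend to closed subschemes. -/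
theorem hasEnoughLocFree_closed {X Z : Scheme.{u}} [IsLocallyNoetherian X] (j : Z ⟶ X) [IsClosedImmersion j]
    (hX : KRR.HasEnoughLocFree X) : KRR.HasEnoughLocFree Z := by
  intro G hG
  obtain ⟨E, p, hE, hp⟩ := hX _ (VBResLib.isCoh_push_of_isClosedImmersion j hG)
  haveI : Coh.IsQCoh G := hG.1
  haveI := CycKSuppLib.isIso_counit j G
  haveI := (Scheme.Modules.pullbackPushforwardAdjunction j).isLeftAdjoint
  refine ⟨(Scheme.Modules.pullback j).obj E,
    (Scheme.Modules.pullback j).map p ≫ (Scheme.Modules.pullbackPushforwardAdjunction j).counit.app G,
    KFlatLib.isFinLocFree_pull j hE, ?_⟩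
  infer_instance

end TorIndepLib

end
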