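import Groth.Agent.TorIndepLib.Scheme
import Groth.Agent.KFlatLib.StalkPull

/-!
# Pull-back of a resolution of a push-forward
-/

set_option autoImplicit false
set_option linter.style.haveILetI false
set_option linter.unusedSectionVars false
set_option backward.isDefEq.respectTransparency false
set_option backward.isDefEq.respectTransparency.types false
set_option maxHeartbeats 1000000

universe v u

open CategoryTheory CategoryTheory.Limits AlgebraicGeometry TopologicalSpace MonoidalCategory
open RingTheory.Sequence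
open LambdaRing (LambdaOps)
attribute [local instance] HasDerivedCategory.standard

noncomputable section

namespace TorIndepLib

open Groth.Agent

/-- Extension of scalars keeps an exact pair exact when tensoring does. -/
theorem exact_extendScalars {A B : CommRingCat.{u}} (h : A ⟶ B) {M₁ M₂ M₃ : ModuleCat.{u} A} (a : M₁ ⟶ M₂) (b : M₂ ⟶ M₃)
    (hab : letI := h.hom.toAlgebra; Function.Exact (a.hom.rTensor (ModuleCat.of A B)) (b.hom.rTensor (ModuleCat.of A B))) :
    Function.Exact ((ModuleCat.extendScalars.{u, u, u} h.hom).map a).hom ((ModuleCat.extendScalars.{u, u, u} h.hom).map b).hom := by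
  letI := h.hom.toAlgebra
  have key : Function.Exact (a.hom.lTensor (ModuleCat.of A B)) (b.hom.lTensor (ModuleCat.of A B)) :=
    (Function.Exact.iff_of_ladder_linearEquiv (e₁ := TensorProduct.comm A M₁ (ModuleCat.of A B))
      (e₂ := TensorProduct.comm A M₂ (ModuleCat.of A B)) (e₃ := TensorProduct.comm A M₃ (ModuleCat.of A B))
      (TensorProduct.ext' fun x y => rfl) (TensorProduct.ext' fun x y => rfl)).2 hab
  exact key

variable {X Y P M : Scheme.{u}} [IsNoetherian M] [IsNoetherian Y] [IsNoetherian P] (F : P ⟶ M) (φ : Y ⟶ M) (f : X ⟶ Y)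
  (ψ : X ⟶ P)

/-- The stalk of the module has no higher `Tor` against the base change. -/
theorem isZero_tor_stalk (hsq : IsPullback f ψ φ F) (hF : Mor2.IsRegularClosedImmersion F)
    (hf : Mor2.IsRegularClosedImmersion f) (d : ℕ) (hcF : FlatMod.IsFinLocFreeOfRank d (Omega.conormal F))
    (hcf : FlatMod.IsFinLocFreeOfRank d (Omega.conormal f)) {E : P.Modules} (hE : FlatMod.IsFinLocFree E) (y : Y) :
    letI := (φ.stalkMap y).hom.toAlgebra
    ∀ i, 0 < i → IsZero (DualExtLib.T i ((DerSch.stalkFunctor M (φ y)).obj ((Scheme.Modules.pushforward F).obj E))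
      (ModuleCat.of (M.presheaf.stalk (φ y)) (Y.presheaf.stalk y))) := by
  letI := (φ.stalkMap y).hom.toAlgebra
  haveI := hF.1
  haveI := hf.1
  intro i hi
  by_cases hy : φ y ∈ Set.range F.base
  · obtain ⟨z, hz⟩ := hy
    obtain ⟨x, hx, -⟩ := Scheme.exists_preimage_of_isPullback hsq y z hz.symm
    obtain ⟨U, hU, rs, hlen, hI, hreg, hmod⟩ := exists_model F hF d hcF (φ y) ⟨z, hz⟩
    obtain ⟨m, ⟨e⟩⟩ := hmod E hE
    have hB := isWeaklyRegular_baseChange F φ f ψ hsq hf d hcf y ⟨x, hx⟩ U hU rs hlen hI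
    have hB' : IsWeaklyRegular (ModuleCat.of (M.presheaf.stalk (φ y)) (Y.presheaf.stalk y))
        (rs.map (M.presheaf.germ U.1 (φ y) hU).hom) :=
      (isWeaklyRegular_map_algebraMap_iff (Y.presheaf.stalk y) (Y.presheaf.stalk y) _).1 hB
    exact (isZero_tor_pi _ _ (isZero_tor_quot _ _ hreg.toIsWeaklyRegular hB') m i hi).of_iso
      (((CategoryTheory.Tor (ModuleCat.{u} (M.presheaf.stalk (φ y))) i).mapIso e).app _)
  · haveI : Subsingleton ((DerSch.stalkFunctor M (φ y)).obj ((Scheme.Modules.pushforward F).obj E)) :=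
      ProjClosedImmLib.subsingleton_stalk F E hy
    haveI : Module.Free (M.presheaf.stalk (φ y))
        ((DerSch.stalkFunctor M (φ y)).obj ((Scheme.Modules.pushforward F).obj E)) := Module.Free.of_subsingleton _ _
    exact TorSESLib.isZero_tor_of_flat _ _ hi

/-- The pulled back resolution is a resolution of the push-forward of the pull-back. -/
theorem exists_lfRes_pullback (hsq : IsPullback f ψ φ F) (hF : Mor2.IsRegularClosedImmersion F)
    (hf : Mor2.IsRegularClosedImmersion f) (d : ℕ) (hcF : FlatMod.IsFinLocFreeOfRank d (Omega.conormal F))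
    (hcf : FlatMod.IsFinLocFreeOfRank d (Omega.conormal f)) {E : P.Modules} (hE : FlatMod.IsFinLocFree E)
    {n : ℕ} {L : ChainComplex M.Modules ℕ}
    {π : L ⟶ (ChainComplex.single₀ M.Modules).obj ((Scheme.Modules.pushforward F).obj E)}
    (hL : KRR.IsLFRes ((Scheme.Modules.pushforward F).obj E) n L π) :
    ∃ π' : ((Scheme.Modules.pullback φ).mapHomologicalComplex (ComplexShape.down ℕ)).obj L ⟶
      (ChainComplex.single₀ Y.Modules).obj ((Scheme.Modules.pushforward f).obj ((Scheme.Modules.pullback ψ).obj E)),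
      KRR.IsLFRes ((Scheme.Modules.pushforward f).obj ((Scheme.Modules.pullback ψ).obj E)) n
        (((Scheme.Modules.pullback φ).mapHomologicalComplex (ComplexShape.down ℕ)).obj L) π' := by
  haveI := hF.1
  haveI := hf.1
  haveI : Coh.IsQCoh E := FinLFAnn.isQCoh_of_isFinLocFree hE
  have hb := Groth.Agent.S12131.result F φ ψ f hsq.flip E
  let G := Scheme.Modules.pullback φ
  haveI : G.IsLeftAdjoint := (Scheme.Modules.pullbackPushforwardAdjunction φ).isLeftAdjoint
  let b : G.obj ((Scheme.Modules.pushforward F).obj E) ≅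
      (Scheme.Modules.pushforward f).obj ((Scheme.Modules.pullback ψ).obj E) := @asIso _ _ _ _ _ hb
  let p : L.X 0 ⟶ (Scheme.Modules.pushforward F).obj E := π.f 0
  have hp : L.d 1 0 ≫ p = 0 := by
    exact (π.comm 1 0).symm.trans (by simp)
  haveI := hL.quasiIso
  have h0 : (ShortComplex.mk (L.d 1 0) p hp).Exact ∧ Epi p := by
    have h := (ChainComplex.quasiIsoAt₀_iff π).1 inferInstance
    rw [ShortComplex.quasiIso_iff_of_zeros' _ (by simp) (by simp) (by simp)] at h
    exact (ShortComplex.exact_and_epi_g_iff_of_iso (S₂ := ShortComplex.mk (L.d 1 0) p hp)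
      (ShortComplex.isoMk (Iso.refl _) (Iso.refl _) (Iso.refl _) (by simp) (by simp [p]))).1 h
  let L' := (G.mapHomologicalComplex (ComplexShape.down ℕ)).obj L
  let q : L'.X 0 ⟶ (Scheme.Modules.pushforward f).obj ((Scheme.Modules.pullback ψ).obj E) := G.map p ≫ b.hom
  have hq : L'.d 1 0 ≫ q = 0 := by
    show G.map (L.d 1 0) ≫ G.map p ≫ b.hom = 0
    rw [← Category.assoc, ← G.map_comp, hp, G.map_zero, zero_comp]
  refine ⟨(ChainComplex.toSingle₀Equiv L' _).symm ⟨q, hq⟩,
    ⟨fun i => KFlatLib.isFinLocFree_pull φ (hL.finLocFree i), fun i hi => G.map_isZero (hL.isZero i hi), ⟨fun k => ?_⟩⟩⟩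
  cases k with
  | zero =>
    rw [ChainComplex.quasiIsoAt₀_iff, ShortComplex.quasiIso_iff_of_zeros']
    · haveI := h0.2
      have hex : ((ShortComplex.mk (L.d 1 0) p hp).map G).Exact :=
        h0.1.map_of_epi_of_preservesCokernel G inferInstance inferInstance
      haveI : Epi (G.map p) := inferInstance
      refine (ShortComplex.exact_and_epi_g_iff_of_iso (S₂ := ShortComplex.mk (L'.d 1 0) q hq) ?_).2
        ⟨?_, epi_comp _ _⟩
      · exact ShortComplex.isoMk (Iso.refl _) (Iso.refl _) (Iso.refl _) ((Category.id_comp _).trans (Category.comp_id _).symm)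
          (by simp)
      · exact (ShortComplex.exact_iff_of_iso (S₁ := (ShortComplex.mk (L.d 1 0) p hp).map G)
          (S₂ := ShortComplex.mk (L'.d 1 0) q hq)
          (ShortComplex.isoMk (Iso.refl _) (Iso.refl _) b ((Category.id_comp _).trans (Category.comp_id _).symm)
            (Category.id_comp _))).1 hex
    all_goals first | rfl | simp
  | succ q₀ =>
    rw [quasiIsoAt_iff_exactAt']
    · rw [HomologicalComplex.exactAt_iff' _ (q₀ + 2) (q₀ + 1) q₀ (by simp) (by simp)]
      refine exact_of_stalk _ fun y => ?_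
      refine (ShortComplex.exact_iff_of_iso ((L.sc' (q₀ + 2) (q₀ + 1) q₀).mapNatIso (KFlatLib.stalkPullIso φ y))).2 ?_
      rw [ShortComplex.ShortExact.moduleCat_exact_iff_function_exact]
      letI := (φ.stalkMap y).hom.toAlgebra
      let St := DerSch.stalkFunctor M (φ y)
      refine exact_extendScalars (φ.stalkMap y) (St.map (L.d (q₀ + 2) (q₀ + 1))) (St.map (L.d (q₀ + 1) q₀)) ?_
      refine exact_tensor (ModuleCat.of (M.presheaf.stalk (φ y)) (Y.presheaf.stalk y))
        (St.obj ((Scheme.Modules.pushforward F).obj E)) ((St.mapHomologicalComplex (ComplexShape.down ℕ)).obj L)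
        (fun i => ?_) ((St.mapHomologicalComplex (ComplexShape.down ℕ)).map π ≫
          (HomologicalComplex.singleMapHomologicalComplex St (ComplexShape.down ℕ) 0).hom.app _) inferInstance
        (isZero_tor_stalk F φ f ψ hsq hF hf d hcF hcf hE y) q₀
      haveI : Module.Free (M.presheaf.stalk (φ y)) ((DerSch.stalkFunctor M (φ y)).obj (L.X i)) :=
        MiscFlat6.free_stalk_of_isFinLocFree (hL.finLocFree i) (φ y)
      exact (IsProjective.iff_projective (R := M.presheaf.stalk (φ y)) (St.obj (L.X i))).1 inferInstance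
    · exact ChainComplex.exactAt_succ_single_obj _ _

variable [ConnectedSpace P] [ConnectedSpace M] [ConnectedSpace X] [ConnectedSpace Y]
variable {KX : Type v} [CommRing KX] {φX : SGA6.Kvb X →+ KX} {KY : Type v} [CommRing KY] {φY : SGA6.Kvb Y →+ KY}
  {KP : Type v} [CommRing KP] {φP : SGA6.Kvb P →+ KP} {KM : Type v} [CommRing KM] {φM : SGA6.Kvb M →+ KM}

/-- Push-forward commutes with pull-back. -/
theorem pull_pushCl (hsq : IsPullback f ψ φ F) (hF : Mor2.IsRegularClosedImmersion F)
    (hf : Mor2.IsRegularClosedImmersion f) (d : ℕ) (hcF : FlatMod.IsFinLocFreeOfRank d (Omega.conormal F))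
    (hcf : FlatMod.IsFinLocFreeOfRank d (Omega.conormal f)) (hMe : KRR.HasEnoughLocFree M)
    (hφP : Function.Bijective φP) (gφ : KM →+ KY) (hgφ : KRR.IsPull φ φM φY gφ) (gψ : KP →+ KX)
    (hgψ : KRR.IsPull ψ φP φX gψ) (gF : KP →+ KM) (hgF : KRR.IsPushCl F φP φM gF) (gf : KX →+ KY)
    (hgf : KRR.IsPushCl f φX φY gf) (p : KP) : gφ (gF p) = gf (gψ p) := by
  obtain ⟨z, rfl⟩ := hφP.2 p
  haveI := hF.1
  suffices key : (gφ.comp gF).comp φP = (gf.comp gψ).comp φP from DFunLike.congr_fun key z
  refine AddMonoidHom.eq_of_eqOn_dense (KHeartLib.clSub_closure_eq_top (KRR.vbP P)) ?_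
  rintro _ ⟨E, hE, rfl⟩
  obtain ⟨n, L, π, hres⟩ := VBResLib.hasLFRes_of_pd hMe
    (VBResLib.isCoh_push_of_isClosedImmersion F (VBResLib.isCoh_of_vb hE))
    (VBResLib.exists_pd_push hMe hF hE).choose_spec
  obtain ⟨π', hres'⟩ := exists_lfRes_pullback F φ f ψ hsq hF hf d hcF hcf hE hres
  simp only [AddMonoidHom.coe_comp, Function.comp_apply]
  rw [show gF (φP (KZero.clSub (KRR.vbP P) E)) = _ from hgF E hE n L π hres, map_sum,
    show gψ (φP (KZero.clSub (KRR.vbP P) E)) = _ from hgψ E hE,
    hgf _ (KFlatLib.isFinLocFree_pull ψ hE) n _ π' hres']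
  refine Finset.sum_congr rfl fun k _ => ?_
  rw [map_zsmul, hgφ _ (hres.finLocFree k)]
  rfl

end TorIndepLib

end
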