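import Groth.Agent.DualExtLib.TorReg
import Groth.Agent.TorBalLib.Basic

/-!
# Base change of resolutions of quotients by sequences which stay regular
-/

set_option autoImplicit false
set_option linter.style.haveILetI false
set_option backward.isDefEq.respectTransparency false
set_option backward.isDefEq.respectTransparency.types false

universe u

open CategoryTheory CategoryTheory.Limits MonoidalCategory RingTheory.Sequence
open DualExtLib (T Q S)

noncomputable section

namespace TorIndepLib

variable {A : Type u} [CommRing A]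

/-- `Tor` of a quotient by a sequence regular on the ring and on the module vanishes. -/
theorem isZero_tor_quot (B : ModuleCat.{u} A) (xs : List A) (hA : IsWeaklyRegular A xs)
    (hB : IsWeaklyRegular B xs) : ∀ i, 0 < i → IsZero (T i (Q (Ideal.ofList xs)) B) := by
  induction xs using List.reverseRecOn with
  | nil =>
    intro i hi
    haveI : Module.Projective A (A ⧸ Ideal.ofList ([] : List A)) :=
      Module.Projective.of_equiv (Submodule.quotEquivOfEqBot (Ideal.ofList ([] : List A)) Ideal.ofList_nil).symm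
    exact TorSESLib.isZero_tor_of_flat B (Q (Ideal.ofList ([] : List A))) hi
  | append_singleton xs x ih =>
    obtain ⟨hA₁, hA₂⟩ := (isWeaklyRegular_append_iff _ _ _).1 hA
    obtain ⟨hB₁, hB₂⟩ := (isWeaklyRegular_append_iff _ _ _).1 hB
    have hx : IsSMulRegular (A ⧸ Ideal.ofList xs) x :=
      ((Submodule.quotEquivOfEq _ _ (by simp)).isSMulRegular_congr x).1 ((isWeaklyRegular_singleton_iff _ _).1 hA₂)
    have hv := ih hA₁ hB₁
    rw [Ideal.ofList_append, Ideal.ofList_singleton]
    generalize hJ : Ideal.ofList xs = J at hx hv hB₂ ⊢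
    intro i hi
    obtain ⟨j, rfl⟩ := Nat.exists_eq_succ_of_ne_zero (show i ≠ 0 by omega)
    have hS := TorSESLib.cx_shortExact (S J x) B (DualExtLib.S_shortExact J x hx)
    refine IsZero.of_iso ?_ (TorSESLib.torIso B (Q (J ⊔ Ideal.span {x})) (j + 1))
    have h₂ := ((hv (j + 1) (by omega)).of_iso (TorSESLib.torIso B (Q J) (j + 1)).symm)
    refine (hS.homology_exact₃ (j + 1) j (by simp)).isZero_X₂ (h₂.eq_of_src _ _) ?_
    rcases Nat.eq_zero_or_pos j with rfl | hj
    · have hf : HomologicalComplex.homologyMap (TorSESLib.cx (S J x) B).f 0 =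
          x • 𝟙 ((TorSESLib.cx (S J x) B).X₁.homology 0) := by
        rw [← HomologicalComplex.homologyMap_id]
        refine DualExtLib.homologyMap_smul' x _ _ (fun k => ?_) 0
        show (S J x).f ▷ _ = x • 𝟙 _
        rw [DualExtLib.S_f]
        apply ModuleCat.hom_ext
        refine TensorProduct.ext' fun q p => ?_
        show (x • q) ⊗ₜ[A] p = x • (q ⊗ₜ[A] p)
        exact (TensorProduct.smul_tmul' x q p).symm
      let F : ModuleCat.{u} A ⥤ ModuleCat.{u} A := (tensoringLeft (ModuleCat.{u} A)).obj (Q J)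
      haveI : PreservesFiniteColimits F := inferInstanceAs (PreservesFiniteColimits (tensorLeft (Q J)))
      let e₁ : T 0 (Q J) B ≅ F.obj B := F.leftDerivedZeroIsoSelf.app B
      let e : (TorSESLib.cx (S J x) B).X₁.homology 0 ≃ₗ[A] B ⧸ (J • ⊤ : Submodule A B) :=
        ((TorSESLib.torIso B (Q J) 0).symm ≪≫ e₁).toLinearEquiv ≪≫ₗ TensorProduct.quotTensorEquivQuotSMul B J
      have hreg : IsSMulRegular ((TorSESLib.cx (S J x) B).X₁.homology 0) x :=
        (e.isSMulRegular_congr x).2 ((isWeaklyRegular_singleton_iff _ _).1 hB₂)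
      haveI : Mono (HomologicalComplex.homologyMap (TorSESLib.cx (S J x) B).f 0) := by
        rw [hf, ModuleCat.mono_iff_injective]
        exact fun a b h => hreg h
      exact (cancel_mono (HomologicalComplex.homologyMap (TorSESLib.cx (S J x) B).f 0)).1
        ((hS.δ_comp (0 + 1) 0 (by simp)).trans zero_comp.symm)
    · exact ((hv j hj).of_iso (TorSESLib.torIso B (Q J) j).symm).eq_of_tgt _ _

/-- The same for finite powers. -/
theorem isZero_tor_pi (B : ModuleCat.{u} A) (J : Ideal A) (h : ∀ i, 0 < i → IsZero (T i (Q J) B)) :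
    ∀ (m : ℕ) (i : ℕ), 0 < i → IsZero (T i (ModuleCat.of A (Fin m → A ⧸ J)) B) := by
  intro m i hi
  induction m with
  | zero =>
    haveI : Module.Free A (Fin 0 → A ⧸ J) := Module.Free.of_subsingleton A (Fin 0 → A ⧸ J)
    exact TorSESLib.isZero_tor_of_flat B (ModuleCat.of A (Fin 0 → A ⧸ J)) hi
  | succ m ih =>
    let e : ((A ⧸ J) × (Fin m → A ⧸ J)) ≃ₗ[A] (Fin (m + 1) → A ⧸ J) :=
      Fin.consLinearEquiv A (fun _ : Fin (m + 1) => A ⧸ J)
    let S₀ : ShortComplex (ModuleCat.{u} A) :=
      ShortComplex.moduleCatMk (e.toLinearMap ∘ₗ LinearMap.inl A (A ⧸ J) (Fin m → A ⧸ J))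
        (LinearMap.snd A (A ⧸ J) (Fin m → A ⧸ J) ∘ₗ e.symm.toLinearMap) (by ext; simp)
    refine TorSESLib.isZero_tor_middle S₀ B ?_ i (h i hi) ih
    exact
      { exact := (ShortComplex.ShortExact.moduleCat_exact_iff_function_exact _).2 fun y =>
          ⟨fun hy => ⟨(e.symm y).1, by
            show e ((e.symm y).1, 0) = y
            rw [← show (e.symm y).2 = 0 from hy]
            exact e.apply_symm_apply y⟩, by
            rintro ⟨c, rfl⟩
            show (e.symm (e (c, 0))).2 = 0
            rw [e.symm_apply_apply]⟩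
        mono_f := (ModuleCat.mono_iff_injective _).2 (e.injective.comp (LinearMap.inl_injective (R := A) (M := A ⧸ J) (M₂ := Fin m → A ⧸ J)))
        epi_g := (ModuleCat.epi_iff_surjective _).2 ((LinearMap.snd_surjective (R := A) (M := A ⧸ J) (M₂ := Fin m → A ⧸ J)).comp e.symm.surjective) }

/-- A projective resolution of a module with vanishing `Tor` stays exact after tensoring. -/
theorem exact_tensor (B M : ModuleCat.{u} A) (L : ChainComplex (ModuleCat.{u} A) ℕ)
    (hL : ∀ i, Projective (L.X i)) (π : L ⟶ (ChainComplex.single₀ (ModuleCat.{u} A)).obj M) (hπ : QuasiIso π)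
    (hM : ∀ i, 0 < i → IsZero (T i M B)) (q : ℕ) :
    Function.Exact ((L.d (q + 2) (q + 1)).hom.rTensor B) ((L.d (q + 1) q).hom.rTensor B) := by
  let P : ProjectiveResolution M := { complex := L, projective := hL, π := π, quasiIso := hπ }
  obtain ⟨e⟩ := TorBalLib.nonempty_tor_iso M B P (q + 1)
  let K := ((tensorRight B).mapHomologicalComplex (ComplexShape.down ℕ)).obj L
  have h : K.ExactAt (q + 1) :=
    (K.exactAt_iff_isZero_homology _).2 ((hM (q + 1) q.succ_pos).of_iso e.symm)
  rw [K.exactAt_iff' (q + 2) (q + 1) q (by simp [ChainComplex.prev]) (by simp),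
    ShortComplex.ShortExact.moduleCat_exact_iff_function_exact] at h
  exact h

end TorIndepLib

end
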