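import Groth.Agent.TorIndepLib.Local
import Groth.Agent.CILib.MinGen
import Groth.Agent.VBResLib.KPush
import Groth.Agent.ProjBunLib.Ses
import Groth.Agent.HilbObsLib.Regular
import Groth.Agent.FComplLib.Modules
import Groth.Agent.ProjClosedImmLib.Stalk
import Groth.Agent.AlgSpRegLib.CartierSpace
import Groth.Agent.S4666
import Groth.Agent.S12131
import Groth.Prelude.Def_KRR

/-!
# Base change of regular immersions of the same codimension
-/

set_option autoImplicit false
set_option linter.style.haveILetI false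
set_option linter.unusedSectionVars false
set_option backward.isDefEq.respectTransparency false
set_option backward.isDefEq.respectTransparency.types false
set_option maxHeartbeats 1000000

universe u

open CategoryTheory CategoryTheory.Limits AlgebraicGeometry TopologicalSpace
open RingTheory.Sequence DevissLib QCohLib

noncomputable section

namespace TorIndepLib

open Groth.Agent

/-- The equations of a regular closed immersion at a point, and the stalks of direct images. -/
theorem exists_model {P M : Scheme.{u}} [IsLocallyNoetherian M] (F : P ⟶ M) (hF : Mor2.IsRegularClosedImmersion F)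
    (d : ℕ) (hcF : FlatMod.IsFinLocFreeOfRank d (Omega.conormal F)) (p : M) (hp : p ∈ Set.range F.base) :
    ∃ (U : M.affineOpens) (hpU : p ∈ U.1) (rs : List Γ(M, U.1)), rs.length = d ∧
      F.ker.ideal U = Ideal.ofList rs ∧ IsRegular (M.presheaf.stalk p) (rs.map (M.presheaf.germ U.1 p hpU).hom) ∧
      ∀ E : P.Modules, FlatMod.IsFinLocFree E → ∃ m : ℕ, Nonempty
        ((DerSch.stalkFunctor M p).obj ((Scheme.Modules.pushforward F).obj E) ≅ ModuleCat.of (M.presheaf.stalk p)
          (Fin m → M.presheaf.stalk p ⧸ Ideal.ofList (rs.map (M.presheaf.germ U.1 p hpU).hom))) := by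
  haveI := hF.1
  obtain ⟨z, rfl⟩ := hp
  obtain ⟨U, hU, hzU, rs, hrs, hI⟩ := hF.2 z
  letI := M.presheaf.algebra_section_stalk (⟨F z, hzU⟩ : U)
  haveI := hU.isLocalization_stalk ⟨F z, hzU⟩
  have hreg : IsWeaklyRegular (M.presheaf.stalk (F z)) (rs.map (M.presheaf.germ U (F z) hzU).hom) :=
    IsWeaklyRegular.of_isLocalization (M.presheaf.stalk (F z)) (hU.primeIdealOf ⟨F z, hzU⟩).asIdeal.primeCompl
      hrs.toIsWeaklyRegular
  have hker : RingHom.ker (F.stalkMap z).hom = Ideal.ofList (rs.map (M.presheaf.germ U (F z) hzU).hom) := by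
    rw [FComplLib.ker_stalkMap F z ⟨U, hU⟩ hzU, hI, Ideal.map_ofList]
  have hlen : rs.length = d := by
    have hc : FLI.IsChart F (⟨U, hU⟩ : M.affineOpens) (fun j : Fin rs.length => rs.get (j.cast rfl)) := by
      refine ⟨hI.trans ?_, FLI.wReg_of_isWeaklyRegular rs hrs.toIsWeaklyRegular rfl⟩
      exact ((TransLib.ofList_ofFn _).symm.trans (congrArg Ideal.ofList (List.ofFn_get rs))).symm
    have hfr := hc.frame z hzU
    obtain ⟨e⟩ := ProjBunLib.free_stalk_of_rank hcF z
    let g := Fintype.linearCombination (P.presheaf.stalk z)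
      (fun j => gm (Omega.conormal F) z (show z ∈ F ⁻¹ᵁ U from hzU) (hc.eU j))
    have hg : Function.Bijective g := by
      have hh : ∀ c, g c = ∑ i, c i • gm (Omega.conormal F) z (show z ∈ F ⁻¹ᵁ U from hzU) (hc.eU i) :=
        fun c => Fintype.linearCombination_apply _ _ _
      rw [show ⇑g = _ from funext hh]
      exact hfr
    have h := ((LinearEquiv.ofBijective g hg).trans e).finrank_eq
    simpa using h
  refine ⟨⟨U, hU⟩, hzU, rs, hlen, hI, ?_, fun E hE => ?_⟩
  · refine IsRegular.of_isWeaklyRegular_of_mem_maximalIdeal _ (fun r hr => ?_) hreg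
    refine IsLocalRing.le_maximalIdeal ?_ (hker.ge (Ideal.subset_span hr))
    exact RingHom.ker_ne_top (F.stalkMap z).hom
  · let A := M.presheaf.stalk (F z)
    let B := P.presheaf.stalk z
    haveI : Module.Free B ((DerSch.stalkFunctor P z).obj E) := MiscFlat6.free_stalk_of_isFinLocFree hE z
    haveI : IsLocallyNoetherian P := LocallyOfFiniteType.isLocallyNoetherian F
    haveI : Module.Finite B ((DerSch.stalkFunctor P z).obj E) := by
      obtain ⟨U', n, e, hx', -, hspan⟩ := MiscFlat6.exists_spanning_nhd ((VBResLib.isCoh_of_vb hE).2) z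
      exact MiscFlat6.finite_stalk (hspan z hx')
    letI : Algebra A B := (F.stalkMap z).hom.toAlgebra
    letI : Module A ((DerSch.stalkFunctor P z).obj E) := Module.compHom _ (F.stalkMap z).hom
    haveI : IsScalarTower A B ((DerSch.stalkFunctor P z).obj E) :=
      IsScalarTower.of_algebraMap_smul fun _ _ => rfl
    let p' : (DerSch.stalkFunctor M (F z)).obj ((Scheme.Modules.pushforward F).obj E) ≃ₗ[A]
        (DerSch.stalkFunctor P z).obj E :=
      LinearEquiv.ofBijective
        ({ (ProjClosedImmLib.pS F z E) with map_smul' := ProjClosedImmLib.pS_smul F z E } :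
          (DerSch.stalkFunctor M (F z)).obj ((Scheme.Modules.pushforward F).obj E) →ₗ[A]
            (DerSch.stalkFunctor P z).obj E) (ProjClosedImmLib.pS_bijective F z E)
    let b := Module.finBasis B ((DerSch.stalkFunctor P z).obj E)
    let e₀ : (A ⧸ Ideal.ofList (rs.map (M.presheaf.germ U (F z) hzU).hom)) ≃ₗ[A] B :=
      ((Ideal.quotientEquivAlgOfEq A hker.symm).trans
        (Ideal.quotientKerAlgEquivOfSurjective (f := Algebra.ofId A B) (F.stalkMap_surjective z))).toLinearEquiv
    exact ⟨_, ⟨(p'.trans ((b.equivFun.restrictScalars A).trans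
      (LinearEquiv.piCongrRight fun _ => e₀.symm))).toModuleIso⟩⟩

/-- Exactness may be checked on stalks. -/
theorem exact_of_stalk {X : Scheme.{u}} (T : ShortComplex X.Modules)
    (h : ∀ x : X, (T.map (DerSch.stalkFunctor X x)).Exact) : T.Exact := by
  rw [ShortComplex.exact_iff_isZero_homology, KFlatLib.isZero_iff_forall_stalk]
  intro x
  have hx := h x
  rw [ShortComplex.exact_iff_isZero_homology] at hx
  exact hx.of_iso (T.mapHomologyIso (DerSch.stalkFunctor X x)).symm

variable {X Y P M : Scheme.{u}} (F : P ⟶ M) (φ : Y ⟶ M) (f : X ⟶ Y) (ψ : X ⟶ P)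

/-- The equations of `F` stay regular after the base change. -/
theorem isWeaklyRegular_baseChange [IsLocallyNoetherian Y] [IsLocallyNoetherian M] (hsq : IsPullback f ψ φ F)
    [IsClosedImmersion F] (hf : Mor2.IsRegularClosedImmersion f) (d : ℕ)
    (hcf : FlatMod.IsFinLocFreeOfRank d (Omega.conormal f)) (y : Y) (hy : y ∈ Set.range f.base)
    (U : M.affineOpens) (hyU : φ y ∈ U.1) (rs : List Γ(M, U.1)) (hlen : rs.length = d)
    (hI : F.ker.ideal U = Ideal.ofList rs) :
    IsWeaklyRegular (Y.presheaf.stalk y)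
      ((rs.map (M.presheaf.germ U.1 (φ y) hyU).hom).map (φ.stalkMap y).hom) := by
  haveI := hf.1
  obtain ⟨U', hyU', rs', hlen', hI', hreg', -⟩ := exists_model f hf d hcf y hy
  obtain ⟨V, hV, hyV, hVle⟩ := exists_isAffineOpen_mem_and_subset (X := Y) (x := y) (U := φ ⁻¹ᵁ U.1) hyU
  let J := (rs.map (M.presheaf.germ U.1 (φ y) hyU).hom).map (φ.stalkMap y).hom
  have hspan : Ideal.ofList J = Ideal.ofList (rs'.map (Y.presheaf.germ U'.1 y hyU').hom) := by
    obtain ⟨x, rfl⟩ := hy
    rw [show Ideal.ofList (rs'.map (Y.presheaf.germ U'.1 (f x) hyU').hom) = RingHom.ker (f.stalkMap x).hom by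
      rw [FComplLib.ker_stalkMap f x U' hyU', hI', Ideal.map_ofList], FComplLib.ker_stalkMap f x ⟨V, hV⟩ hyV,
      AlgSpRegLib.ker_of_isPullback (f := F) (g := φ) (g' := ψ) (f' := f) hsq.flip,
      Groth.Agent.S4666.ideal_comap_eq F.ker φ U ⟨V, hV⟩ hVle, hI, Ideal.map_ofList, Ideal.map_ofList]
    congr 1
    simp only [J, List.map_map]
    refine List.map_congr_left fun r _ => ?_
    show (φ.stalkMap (f x)).hom ((M.presheaf.germ U.1 (φ (f x)) hyU).hom r) =
      (Y.presheaf.germ V (f x) hyV).hom ((φ.appLE U.1 V hVle).hom r)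
    exact (φ.germ_stalkMap_apply U.1 (f x) hyU r).trans
      (TopCat.Presheaf.germ_res_apply Y.presheaf (homOfLE hVle) (f x) hyV (φ.app U.1 r)).symm
  have hlJ : J.length = d := by simp [J, hlen]
  have hl' : (rs'.map (Y.presheaf.germ U'.1 y hyU').hom).length = d := by simp [hlen']
  show IsWeaklyRegular _ J
  generalize J = L at hspan hlJ ⊢
  generalize rs'.map (Y.presheaf.germ U'.1 y hyU').hom = L' at hspan hl' hreg'
  subst hlJ
  have hx : List.ofFn (fun i : Fin L.length => L'.get (i.cast hl'.symm)) = L' := by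
    refine List.ext_getElem (by simp [hl']) fun i h₁ h₂ => ?_
    simp
  have := CILib.isRegular_of_span_eq L.length (Y.presheaf.stalk y) (fun i => L'.get (i.cast hl'.symm)) L.get
    (hx.symm ▸ hreg') (by
      rw [← CILib.ofList_ofFn, ← CILib.ofList_ofFn, List.ofFn_get, hx]
      exact hspan)
  rw [List.ofFn_get] at this
  exact this.toIsWeaklyRegular

end TorIndepLib

end
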